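import Groth.Agent.Blow44.CurveDrop
import Groth.Agent.NefPos.ListInt
import Groth.Agent.PicAlg.IdealPull
import Groth.Agent.S8862

/-!
# A curve against a divisor not containing it
-/

set_option autoImplicit false
set_option linter.style.haveILetI false

universe u

open CategoryTheory CategoryTheory.Limits AlgebraicGeometry TopologicalSpace

noncomputable section

namespace Groth.Agent.Blow44

variable (k : Type u) [Field k] {X S : Scheme.{u}} [X.Over (Spec (CommRingCat.of k))]
  [IsProper (X ↘ Spec (CommRingCat.of k))]

/-- The pullback of the ideal of a divisor has nonpositive degree on a curve mapped out of it. -/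
theorem deg_comap_nonpos (g : X ⟶ S) (E : X.IdealSheafData) [IsIntegral E.subscheme]
    (hE1 : topologicalKrullDim (E.support : Set X) = 1) (D : S.IdealSheafData)
    (hD : BlowUp.IsEffCartierIdeal D)
    (hns : g (E.subschemeι (genericPoint E.subscheme)) ∉ D.support) :
    Curv2.euler k X (CohB1.tensorMod (ClSub.quotMod E) ((Scheme.Modules.pullback g).obj (ClSub.idealMod D))) -
      Curv2.euler k X (ClSub.quotMod E) ≤ 0 := by
  letI : E.subscheme.Over (Spec (CommRingCat.of k)) := ⟨E.subschemeι ≫ (X ↘ Spec (CommRingCat.of k))⟩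
  haveI : IsProper (E.subscheme ↘ Spec (CommRingCat.of k)) :=
    inferInstanceAs (IsProper (E.subschemeι ≫ (X ↘ Spec (CommRingCat.of k))))
  have hdE : topologicalKrullDim E.subscheme = 1 := by
    rw [IsHomeomorph.topologicalKrullDim_eq _ (E.subschemeι.isEmbedding.toHomeomorph.trans
      (Homeomorph.setCongr E.range_subschemeι)).isHomeomorph]
    exact hE1
  have hc : BlowUp.IsEffCartierIdeal (D.comap (E.subschemeι ≫ g)) := by
    refine S8862.result (E.subschemeι ≫ g) D hD fun ξ hξ hmem => hns ?_
    rw [hξ _ (genericPoint_specializes ξ)]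
    exact hmem
  obtain ⟨e⟩ := PicAlg.nonempty_pullback_idealMod (E.subschemeι ≫ g) D hD hc
  have hDi := IdealSh.IdealMod.isInvertible_of_isEffCartierIdeal _ hc
  have hDS := IdealSh.IdealMod.isInvertible_of_isEffCartierIdeal _ hD
  haveI : Mono (ClSub.idealModι (D.comap (E.subschemeι ≫ g))) := inferInstanceAs (Mono (kernel.ι _))
  have hle := (EulerChar.euler_le_of_ne_zero hDi (PicLoc.isInvertible_structureModule _)
    (ClSub.idealModι (D.comap (E.subschemeι ≫ g)))
    (fun h0 => BigVol.not_isZero_of_isInvertible hDi ((IsZero.iff_id_eq_zero _).2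
      ((cancel_mono (ClSub.idealModι (D.comap (E.subschemeι ≫ g)))).1 (by rw [h0, comp_zero, comp_zero]))))
    k hdE).1
  rw [BigVol.CurveTest.euler_sub_eq_deg k E (PicCl.isInvertible_pullback g hDS), Curv2.deg,
    EulerChar.euler_iso k (show (Scheme.Modules.pullback E.subschemeι).obj
      ((Scheme.Modules.pullback g).obj (ClSub.idealMod D)) ≅ _ from
        (Scheme.Modules.pullbackComp E.subschemeι g).app (ClSub.idealMod D) ≪≫ e)]
  omega

/-- The ideal of a divisor has nonpositive degree on a curve not contained in it. -/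
theorem deg_idealMod_nonpos (E : X.IdealSheafData) [IsIntegral E.subscheme]
    (hE1 : topologicalKrullDim (E.support : Set X) = 1) (D : X.IdealSheafData)
    (hD : BlowUp.IsEffCartierIdeal D)
    (hns : ¬ (E.support : Set X) ⊆ D.support) :
    Curv2.euler k X (CohB1.tensorMod (ClSub.quotMod E) (ClSub.idealMod D)) -
      Curv2.euler k X (ClSub.quotMod E) ≤ 0 := by
  have h := deg_comap_nonpos k (𝟙 X) E hE1 D hD (fun hg => hns ?_)
  · rwa [EulerChar.euler_iso k (ProjTwist.tensCongr (Iso.refl (ClSub.quotMod E))
      ((Scheme.Modules.pullbackId X).app (ClSub.idealMod D)))] at h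
  · rw [← E.range_subschemeι]
    rintro _ ⟨z, rfl⟩
    exact ((genericPoint_specializes z).map E.subschemeι.continuous).mem_closed D.support.isClosed hg

/-- The degree on a curve is additive. -/
theorem deg_mul (E : X.IdealSheafData) (hE1 : topologicalKrullDim (E.support : Set X) = 1) {A B : X.Modules}
    (hA : PicF.IsInvertible A) (hB : PicF.IsInvertible B) :
    Curv2.euler k X (CohB1.tensorMod (ClSub.quotMod E) (CohB1.tensorMod A B)) - Curv2.euler k X (ClSub.quotMod E) =
      (Curv2.euler k X (CohB1.tensorMod (ClSub.quotMod E) A) - Curv2.euler k X (ClSub.quotMod E)) +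
        (Curv2.euler k X (CohB1.tensorMod (ClSub.quotMod E) B) - Curv2.euler k X (ClSub.quotMod E)) := by
  haveI := EulerChar.isNoetherian k (X := X)
  have hd : topologicalKrullDim ↥(CohB1.support (ClSub.quotMod E)) ≤
      ((([] : List X.Modules).length + 1 : ℕ) : WithBot ℕ∞) :=
    ((Topology.IsEmbedding.inclusion (EulerChar.support_quotMod_subset E)).isInducing.topologicalKrullDim_le).trans
      hE1.le
  have h := NefPos.iC_mul k (l := []) (fun C hC => by simp at hC) hA hB (EulerChar.isCoh_quotMod k E) hd
  simp only [NefPos.iC_cons, NefPos.iC_nil] at h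
  simp only [EulerChar.euler_iso k (ProjTwist.tensComm (ClSub.quotMod E) _)]
  linarith

end Groth.Agent.Blow44
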