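import Groth.Agent.SurfRR.Surface
import Groth.Agent.BigVol.Basic
import Groth.Agent.BigVol.CurveTest
import Groth.Agent.EulerChar.Restrict
import Groth.Agent.CurveSimple.Degree
import Groth.Agent.CurveDVR.Stalk

/-!
# Sections and negative curves on a smooth surface
-/

set_option autoImplicit false
set_option linter.style.haveILetI false

universe u

open CategoryTheory CategoryTheory.Limits AlgebraicGeometry TopologicalSpace

noncomputable section

namespace Groth.Agent.Blow44

variable (k : Type u) [Field k] {X : Scheme.{u}} [X.Over (Spec (CommRingCat.of k))]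
  [IsProper (X ↘ Spec (CommRingCat.of k))] [IsIntegral X]

omit [IsProper (X ↘ Spec (CommRingCat.of k))] [IsIntegral X] in
theorem isInvertible_excCurve [IsIntegral X] [Smooth (X ↘ Spec (CommRingCat.of k))] (hdim : topologicalKrullDim X = 2)
    (E : X.IdealSheafData) [IsIntegral E.subscheme] (hE1 : topologicalKrullDim (E.support : Set X) = 1) :
    PicF.IsInvertible (ClSub.idealMod E) := by
  have hd : topologicalKrullDim E.subscheme = 1 := by
    rw [IsHomeomorph.topologicalKrullDim_eq _ (E.subschemeι.isEmbedding.toHomeomorph.trans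
      (Homeomorph.setCongr E.range_subschemeι)).isHomeomorph]
    exact hE1
  have h := SurfRR.isInvertible_curve k (hdim.trans rfl)
    (fun x => CurveDVR.isRegularLocalRing_stalk (X ↘ Spec (CommRingCat.of k)) x) E.subschemeι (hd.trans rfl)
  rwa [Scheme.IdealSheafData.ker_subschemeι] at h

omit [IsIntegral X] in
/-- The degree on a Cartier curve is minus the intersection number with its ideal. -/
theorem deg_eq_neg_pr (E : X.IdealSheafData) (hI : PicF.IsInvertible (ClSub.idealMod E))
    {A : X.Modules} (hA : PicF.IsInvertible A) :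
    Curv2.euler k X (CohB1.tensorMod (ClSub.quotMod E) A) - Curv2.euler k X (ClSub.quotMod E) =
      -SurfRR.pr k (ClSub.idealMod E) A := by
  haveI := EulerChar.isNoetherian k (X := X)
  have hO := ProperFin.isCoh_structureModule X
  have hIc := BigVol.isCoh_of_isInvertible hI
  have hQ := EulerChar.isCoh_quotMod k E
  have hA1 := ProjTwist.isFinLocFreeOfRank_one hA
  have hS := EulerChar.shortExact_ideal E
  have h1 := EulerChar.euler_add' k (ClSub.idealModι E) (ClSub.toSubscheme E) (kernel.condition _) hS hIc hO hQ
  have h2 := EulerChar.euler_add_map k (DCoh.tensorBi.obj A) (ClSub.idealModι E) (ClSub.toSubscheme E)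
    (kernel.condition _) (CohDev.tens_shortExact hA1 hS) (EulerChar.isCoh_tens k hA1 hIc)
    (EulerChar.isCoh_tens k hA1 hO) (EulerChar.isCoh_tens k hA1 hQ)
  have h3 : Curv2.euler k X (CohB1.tensorMod A (Coh.structureModule X)) =
      Curv2.euler k X (CohB1.tensorMod A (ClSub.idealMod E)) +
        Curv2.euler k X (CohB1.tensorMod A (ClSub.quotMod E)) := h2
  rw [EulerChar.euler_iso k (ProjTwist.tensOne A)] at h3
  rw [SurfRR.pr_eq, EulerChar.euler_iso k (ProjTwist.tensComm (ClSub.quotMod E) A)]
  linarith

/-- Sections of `N` vanish on an integral curve where `N` has negative degree. -/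
theorem h0_drop (E : X.IdealSheafData) [IsIntegral E.subscheme]
    (hE1 : topologicalKrullDim (E.support : Set X) = 1) (hI : PicF.IsInvertible (ClSub.idealMod E))
    {N : X.Modules} (hN : PicF.IsInvertible N)
    (hneg : Curv2.euler k X (CohB1.tensorMod (ClSub.quotMod E) N) - Curv2.euler k X (ClSub.quotMod E) < 0) :
    BigVol.h0 k N ≤ BigVol.h0 k (CohB1.tensorMod (ClSub.idealMod E) N) := by
  haveI := EulerChar.isNoetherian k (X := X)
  letI : E.subscheme.Over (Spec (CommRingCat.of k)) := ⟨E.subschemeι ≫ (X ↘ Spec (CommRingCat.of k))⟩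
  haveI : IsProper (E.subscheme ↘ Spec (CommRingCat.of k)) :=
    inferInstanceAs (IsProper (E.subschemeι ≫ (X ↘ Spec (CommRingCat.of k))))
  have hd : topologicalKrullDim E.subscheme = 1 := by
    rw [IsHomeomorph.topologicalKrullDim_eq _ (E.subschemeι.isEmbedding.toHomeomorph.trans
      (Homeomorph.setCongr E.range_subschemeι)).isHomeomorph]
    exact hE1
  have hmono : Mono (ClSub.idealModι E) := inferInstanceAs (Mono (kernel.ι (ClSub.toSubscheme E)))
  have h := BigVol.h0_tensor_le k hI hN (ClSub.idealModι E) hmono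
  let eQ : cokernel (ClSub.idealModι E) ≅ ClSub.quotMod E :=
    (cokernelIsCokernel (ClSub.idealModι E)).coconePointUniqueUpToIso
      (EulerChar.shortExact_ideal E).gIsCokernel
  haveI : N.IsQuasicoherent := (BigVol.isCoh_of_isInvertible hN).1
  have hNE := PicCl.isInvertible_pullback E.subschemeι hN
  let e : CohB1.tensorMod (cokernel (ClSub.idealModι E)) N ≅
      (Scheme.Modules.pushforward E.subschemeι).obj ((Scheme.Modules.pullback E.subschemeι).obj N) :=
    ProjTwist.tensCongr eQ (Iso.refl N) ≪≫ ProjTwist.tensComm (ClSub.quotMod E) N ≪≫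
      EulerChar.tensQuotIso E.subschemeι N
  have hz : BigVol.h0 k (CohB1.tensorMod (cokernel (ClSub.idealModι E)) N) = 0 := by
    rw [BigVol.h0, (SurfRR.hhEquiv k e 0).finrank_eq,
      (EulerChar.nonempty_pushEquiv (A := k) E.subschemeι rfl ((Scheme.Modules.pullback E.subschemeι).obj N)
        (ProjTwist.isQCoh_of_isInvertible hNE) 0).some.finrank_eq]
    by_contra hne
    have hnt : Nontrivial (Coh.HH E.subscheme ((Scheme.Modules.pullback E.subschemeι).obj N) 0) :=
      Module.nontrivial_of_finrank_pos (R := k) (Nat.pos_of_ne_zero hne)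
    obtain ⟨s, hs⟩ := CurveSimple.exists_hom_ne_zero hnt
    have hpos := (CurveSimple.deg_nonneg_of_hom k hd hNE s hs).1
    rw [BigVol.CurveTest.euler_sub_eq_deg k E hN] at hneg
    exact absurd hpos (not_le.2 hneg)
  omega

end Groth.Agent.Blow44
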