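import Groth.Agent.Blow44.CurveDrop
import Groth.Agent.CIProj49.Sheaf
import Groth.Agent.LefHyp.Ideal
import Groth.Agent.SepTang48.Chart
import Groth.Agent.NumTriv.Twist
import Groth.Agent.TwistFlat.HilbInt
import Groth.Agent.SurfRR.Proper
import Groth.Agent.S1682
import Groth.Agent.S8862
import Groth.Agent.S4466
import Groth.Agent.S10829
import Mathlib.Algebra.Module.Submodule.Union

/-!
# A line missing the centres of a blown-up plane
-/

set_option autoImplicit false
set_option linter.style.haveILetI false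
set_option backward.isDefEq.respectTransparency false
set_option backward.isDefEq.respectTransparency.types false

universe u

open CategoryTheory CategoryTheory.Limits AlgebraicGeometry TopologicalSpace

noncomputable section

namespace Groth.Agent.Blow44

open Groth.Agent.SepTang48 (D isAffineOpen_D)
open Groth.Agent.ProjMorph Groth.Agent.QCoh Groth.Agent.Props.ProjFrame

variable (k : Type u) [Field k]

theorem exists_mem_D' {k : Type u} [Field k] {n : ℕ} (y : CohB1.ProjSpace n k) : ∃ i, y ∈ D k n i :=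
  Opens.mem_iSup.mp ((SepTang48.iSup_D k n).ge (Set.mem_univ y))

/-- The support of a hyperplane. -/
theorem mem_support_hypIdeal_iff {n : ℕ} (f : LefPen.Form n k 1) (x : ↥(CohB1.ProjSpace n k)) :
    x ∈ (LefPen.hypIdeal f).support ↔
      (f.1 : MvPolynomial (Fin (n + 1)) k) ∈
        (show ProjectiveSpectrum (CohB1.polyGrading n k) from x).asHomogeneousIdeal := by
  obtain ⟨i, hi⟩ : ∃ i, x ∈ D k n i := exists_mem_D' x
  have key : x ∈ (LefPen.hypIdeal f).support ↔
      x ∉ (CohB1.ProjSpace n k).basicOpen (LefPen.dehom f i) := by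
    have h := Set.ext_iff.1 ((LefPen.hypIdeal f).coe_support_inter ⟨D k n i, isAffineOpen_D k n i⟩) x
    rw [LefHyp.hypIdeal_ideal_of_le f i ⟨D k n i, isAffineOpen_D k n i⟩ le_rfl] at h
    simp only [Set.mem_inter_iff, SetLike.mem_coe, hi, and_true, Scheme.zeroLocus_span,
      Scheme.zeroLocus_singleton, Set.mem_compl_iff] at h
    rw [h]
    exact not_congr (by rw [Scheme.basicOpen_res]; simp [hi])
  rw [key, LefHyp.dehom_eq_coeff f i (LefHyp.D_le_pow i 1)]
  have hb := basicOpen_coeff (𝒜 := CohB1.polyGrading n k) f.2 (LefHyp.X_pow_mem i 1) (D k n i) (LefHyp.D_le_pow i 1)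
  refine Iff.trans (not_congr (show x ∈ (CohB1.ProjSpace n k).basicOpen
      (coeff f.2 (LefHyp.X_pow_mem i 1) (D k n i) (LefHyp.D_le_pow i 1)) ↔
      (f.1 : MvPolynomial (Fin (n + 1)) k) ∉
        (show ProjectiveSpectrum (CohB1.polyGrading n k) from x).asHomogeneousIdeal from
    (SetLike.ext_iff.1 hb x).trans ⟨fun h => h.2, fun h => ⟨hi, h⟩⟩)) ?_
  rw [not_not]

/-- Over an infinite field a hyperplane avoids finitely many points. -/
theorem exists_line [Infinite k] {n r : ℕ} (P : Fin r → ↥(CohB1.ProjSpace n k)) :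
    ∃ F : LefPen.Form n k 1, F.1 ≠ 0 ∧ ∀ i, P i ∉ (LefPen.hypIdeal F).support := by
  let pt : Fin r → ProjectiveSpectrum (CohB1.polyGrading n k) := fun i => P i
  let p : Option (Fin r) → Submodule k (LefPen.Form n k 1) := fun o => o.elim ⊥ fun i =>
    Submodule.comap (CohB1.polyGrading n k 1).subtype
      ((pt i).asHomogeneousIdeal.toIdeal.restrictScalars k)
  have hp : ∀ o, p o ≠ ⊤ := by
    rintro (_ | i) h
    · have h0 : (⟨MvPolynomial.X 0, LefPen.X_mem n k 0⟩ : LefPen.Form n k 1) ∈ p none := h ▸ Submodule.mem_top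
      exact MvPolynomial.X_ne_zero (R := k) (0 : Fin (n + 1)) (congrArg Subtype.val ((Submodule.mem_bot k).1 h0))
    · obtain ⟨j, hj⟩ := exists_mem_D' (P i)
      have h1 : (⟨MvPolynomial.X j, LefPen.X_mem n k j⟩ : LefPen.Form n k 1) ∈ p (some i) := h ▸ Submodule.mem_top
      exact hj h1
  obtain ⟨F, hF⟩ := Submodule.exists_forall_notMem_of_forall_ne_top p hp
  refine ⟨F, fun h => hF none ((Submodule.mem_bot k).2 (Subtype.ext h)), fun i hi => hF (some i) ?_⟩
  exact (mem_support_hypIdeal_iff k F (P i)).1 hi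

theorem euler_twist_plane (d : ℤ) (h : letI : (CohB1.ProjSpace 2 k).Over (Spec (CommRingCat.of k)) := ⟨CohB1.ProjSpace.toSpec 2 k⟩
    IsProper (CohB1.ProjSpace 2 k ↘ Spec (CommRingCat.of k))) :
    letI : (CohB1.ProjSpace 2 k).Over (Spec (CommRingCat.of k)) := ⟨CohB1.ProjSpace.toSpec 2 k⟩
    Curv2.euler k (CohB1.ProjSpace 2 k) (Twist.twistProjSpace 2 k d) = Ring.choose (d + 2) 2 := by
  letI : (CohB1.ProjSpace 2 k).Over (Spec (CommRingCat.of k)) := ⟨CohB1.ProjSpace.toSpec 2 k⟩
  haveI := h
  have hd : topologicalKrullDim (CohB1.ProjSpace 2 k) ≤ (2 : ℕ) := (S10829.result k 2).le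
  have h2 := S4466.result k 2 (by norm_num) d
  rw [SurfRR.euler_eq_three k hd]
  simp [Finset.sum_range_succ] at h2
  refine Eq.trans ?_ h2
  show (_ : ℤ) - _ + _ = _
  abel

variable {k}
variable {X : Scheme.{u}} [X.Over (Spec (CommRingCat.of k))] [IsIntegral X]
  [IsProper (X ↘ Spec (CommRingCat.of k))]

/-- On a plane blown up away from a line, the canonical class has degree `-3` on the pulled back line. -/
theorem canonical_dot [IsAlgClosed k] [Smooth (X ↘ Spec (CommRingCat.of k))] (hdim : topologicalKrullDim X = 2)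
    (σ : X ⟶ CohB1.ProjSpace 2 k)
    (hσk : σ ≫ CohB1.ProjSpace.toSpec 2 k = X ↘ (Spec (CommRingCat.of k)))
    {r : ℕ} (P : Fin r → ↥(CohB1.ProjSpace 2 k)) (hZ : IsClosed (Set.range P))
    (hσ : BlowUp.IsBlowUp σ (Scheme.IdealSheafData.vanishingIdeal ⟨Set.range P, hZ⟩))
    (W : X.Modules) (hW : ExtPow.IsExtPow 2 (Omega.sheaf (X ↘ (Spec (CommRingCat.of k)))) W) :
    SurfRR.pr k ((Scheme.Modules.pullback σ).obj (Twist.twistProjSpace 2 k 1)) W = -3 := by
  haveI := EulerChar.isNoetherian k (X := X)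
  letI : (CohB1.ProjSpace 2 k).Over (Spec (CommRingCat.of k)) := ⟨CohB1.ProjSpace.toSpec 2 k⟩
  haveI hP2 : IsProper (CohB1.ProjSpace 2 k ↘ Spec (CommRingCat.of k)) := ProjProper.Basic.isProper_toSpec 2 k
  haveI := EulerChar.isNoetherian k (X := CohB1.ProjSpace 2 k)
  obtain ⟨F, hF, hav⟩ := exists_line k P
  let I := LefPen.hypIdeal F
  let C := I.comap σ
  let Z := Scheme.IdealSheafData.vanishingIdeal (X := CohB1.ProjSpace 2 k) ⟨Set.range P, hZ⟩
  let V : (CohB1.ProjSpace 2 k).Opens := Z.support.compl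
  haveI : IsIso (σ ∣_ V) := S1682.result Z σ hσ
  have hsupp : (Z.support : Set ↥(CohB1.ProjSpace 2 k)) = Set.range P :=
    (Scheme.IdealSheafData.coe_support_vanishingIdeal ⟨Set.range P, hZ⟩)
  -- a section over the line
  have hrange : Set.range I.subschemeι ⊆ Set.range V.ι := by
    rw [Scheme.Opens.range_ι, I.range_subschemeι]
    intro x hx hxZ
    obtain ⟨i, rfl⟩ := hsupp.le hxZ
    exact hav i hx
  let ι' := IsOpenImmersion.lift V.ι I.subschemeι hrange
  let j : I.subscheme ⟶ X := ι' ≫ inv (σ ∣_ V) ≫ (σ ⁻¹ᵁ V).ι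
  have hres : inv (σ ∣_ V) ≫ (σ ⁻¹ᵁ V).ι ≫ σ = V.ι := by
    rw [← morphismRestrict_ι, IsIso.inv_hom_id_assoc]
  have hjσ : j ≫ σ = I.subschemeι := by
    simp only [j, Category.assoc, hres]
    exact IsOpenImmersion.lift_fac _ _ _
  haveI : IsIso (pullback.snd σ I.subschemeι) := by
    refine ⟨pullback.lift j (𝟙 _) (by rw [hjσ, Category.id_comp]), ?_, pullback.lift_snd _ _ _⟩
    have hr : Set.range (pullback.fst σ I.subschemeι) ⊆ Set.range (σ ⁻¹ᵁ V).ι := by
      rw [Scheme.Opens.range_ι]
      rintro _ ⟨z, rfl⟩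
      have hz : σ (pullback.fst σ I.subschemeι z) = I.subschemeι (pullback.snd σ I.subschemeι z) :=
        congr($(pullback.condition (f := σ) (g := I.subschemeι)).base z)
      show σ (pullback.fst σ I.subschemeι z) ∈ V
      rw [hz, ← SetLike.mem_coe, ← Scheme.Opens.range_ι]
      exact hrange ⟨_, rfl⟩
    let a := IsOpenImmersion.lift (σ ⁻¹ᵁ V).ι (pullback.fst σ I.subschemeι) hr
    have ha : a ≫ (σ ∣_ V) = pullback.snd σ I.subschemeι ≫ ι' := by
      rw [← cancel_mono V.ι, Category.assoc, morphismRestrict_ι, IsOpenImmersion.lift_fac_assoc,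
        Category.assoc, IsOpenImmersion.lift_fac, pullback.condition]
    ext1
    · rw [Category.assoc, pullback.lift_fst, Category.id_comp]
      simp only [j]
      rw [← Category.assoc (pullback.snd σ I.subschemeι), ← ha, Category.assoc, IsIso.hom_inv_id_assoc,
        IsOpenImmersion.lift_fac]
    · rw [Category.assoc, pullback.lift_snd, Category.comp_id, Category.id_comp]
  let q : C.subscheme ≅ I.subscheme := I.comapIso σ ≪≫ asIso (pullback.snd σ I.subschemeι)
  have hq : q.hom ≫ I.subschemeι = C.subschemeι ≫ σ := by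
    show ((I.comapIso σ).hom ≫ pullback.snd σ I.subschemeι) ≫ I.subschemeι = _
    rw [Category.assoc, ← pullback.condition, ← Category.assoc, Scheme.IdealSheafData.comapIso_hom_fst]
  -- the divisors
  have hI : BlowUp.IsEffCartierIdeal I := CIProj49.isEffCartier_hyp F hF
  have hIinv := IdealSh.IdealMod.isInvertible_of_isEffCartierIdeal I hI
  have hC : BlowUp.IsEffCartierIdeal C := by
    refine S8862.result σ I hI fun ξ hξ hmem => ?_
    have hgen : ξ = genericPoint X := (hξ _ (genericPoint_specializes ξ)).symm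
    subst hgen
    have hall : ∀ x : X, σ x ∈ I.support := fun x =>
      ((genericPoint_specializes x).map σ.continuous).mem_closed I.support.isClosed hmem
    have hcl : C.support = ⊤ := by
      ext1
      rw [Scheme.IdealSheafData.support_comap]
      exact Set.eq_univ_of_forall hall
    have hd2 : topologicalKrullDim I.subscheme = topologicalKrullDim X := by
      rw [← IsHomeomorph.topologicalKrullDim_eq _ (Scheme.homeoOfIso q).isHomeomorph,
        IsHomeomorph.topologicalKrullDim_eq _ (C.subschemeι.isEmbedding.toHomeomorph.trans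
          (Homeomorph.setCongr (C.range_subschemeι.trans (congrArg SetLike.coe hcl)))).isHomeomorph]
      exact IsHomeomorph.topologicalKrullDim_eq _ (Homeomorph.Set.univ X).isHomeomorph
    rw [hdim] at hd2
    refine absurd hd2 (ne_of_lt ?_)
    rw [IsHomeomorph.topologicalKrullDim_eq _ (I.subschemeι.isEmbedding.toHomeomorph.trans
      (Homeomorph.setCongr I.range_subschemeι)).isHomeomorph]
    haveI : IrreducibleSpace ↥(CohB1.ProjSpace 2 k) := S18573.irreducibleSpace_projSpace 2 k
    refine CohDev.dim_lt_of_irreducible I.support.isClosed (IrreducibleSpace.isIrreducible_univ _)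
      (Set.subset_univ _) (fun h => IdealSh.Regular.not_mem_support_of_maximal hI (genericPoint _)
        (fun w hw => (hw.antisymm (genericPoint_specializes w)).eq) (h (Set.mem_univ _))) ?_
    rw [IsHomeomorph.topologicalKrullDim_eq _ (Homeomorph.Set.univ _).isHomeomorph, S10829.result k 2]
  have hCinv := IdealSh.IdealMod.isInvertible_of_isEffCartierIdeal C hC
  obtain ⟨e1⟩ := PicAlg.nonempty_pullback_idealMod σ I hI hC
  obtain ⟨e2⟩ := CIProj49.nonempty_hypIso F hF
  let eI : ClSub.idealMod C ≅ NumTriv.oX σ (-1) :=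
    e1.symm ≪≫ (Scheme.Modules.pullback σ).mapIso e2
  -- degrees on the line
  letI : C.subscheme.Over (Spec (CommRingCat.of k)) := ⟨C.subschemeι ≫ (X ↘ Spec (CommRingCat.of k))⟩
  letI : I.subscheme.Over (Spec (CommRingCat.of k)) := ⟨I.subschemeι ≫ CohB1.ProjSpace.toSpec 2 k⟩
  haveI : IsProper (I.subschemeι ≫ CohB1.ProjSpace.toSpec 2 k) :=
    inferInstanceAs (IsProper (I.subschemeι ≫ (CohB1.ProjSpace 2 k ↘ Spec (CommRingCat.of k))))
  haveI : IsProper (C.subscheme ↘ Spec (CommRingCat.of k)) :=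
    inferInstanceAs (IsProper (C.subschemeι ≫ (X ↘ Spec (CommRingCat.of k))))
  have w : q.hom ≫ I.subschemeι ≫ CohB1.ProjSpace.toSpec 2 k = C.subschemeι ≫ (X ↘ Spec (CommRingCat.of k)) := by
    rw [← Category.assoc, hq, Category.assoc, hσk]
  have transp : ∀ N : I.subscheme.Modules, Coh.IsQCoh N →
      Curv2.euler k C.subscheme ((Scheme.Modules.pullback q.hom).obj N) = Curv2.euler k I.subscheme N :=
    fun N hN => TwistFlat.euler_iso_scheme (C.subschemeι ≫ (X ↘ Spec (CommRingCat.of k)))
      (I.subschemeι ≫ CohB1.ProjSpace.toSpec 2 k) q w N hN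
  have hO : Curv2.euler k C.subscheme (Coh.structureModule C.subscheme) =
      Curv2.euler k I.subscheme (Coh.structureModule I.subscheme) :=
    ((EulerChar.euler_iso k (QCoh.pullbackUnitIso q.hom)).symm).trans
      (transp _ (ProjTwist.isQuasicoherent_structureModule _))
  have hdeg : ∀ T : (CohB1.ProjSpace 2 k).Modules, PicF.IsInvertible T →
      SurfRR.pr k (ClSub.idealMod C) ((Scheme.Modules.pullback σ).obj T) =
        SurfRR.pr k (ClSub.idealMod I) T := by
    intro T hT
    have h1 := deg_eq_neg_pr k C hCinv (PicCl.isInvertible_pullback σ hT)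
    have h2 := deg_eq_neg_pr k I hIinv hT
    rw [BigVol.CurveTest.euler_sub_eq_deg k C (PicCl.isInvertible_pullback σ hT)] at h1
    rw [BigVol.CurveTest.euler_sub_eq_deg k I hT] at h2
    have hN := PicCl.isInvertible_pullback I.subschemeι hT
    have h3 : Curv2.euler k C.subscheme
        ((Scheme.Modules.pullback C.subschemeι).obj ((Scheme.Modules.pullback σ).obj T)) =
        Curv2.euler k I.subscheme ((Scheme.Modules.pullback I.subschemeι).obj T) := by
      refine (EulerChar.euler_iso k ?_).trans (transp _ (ProjTwist.isQCoh_of_isInvertible hN))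
      exact (Scheme.Modules.pullbackComp C.subschemeι σ).app T ≪≫
        (Scheme.Modules.pullbackCongr hq.symm).app T ≪≫
        ((Scheme.Modules.pullbackComp q.hom I.subschemeι).app T).symm
    simp only [Curv2.deg, Nat.cast_one, one_mul] at h1 h2
    change Curv2.euler k C.subscheme _ - _ = _ at h1
    change Curv2.euler k I.subscheme _ - _ = _ at h2
    rw [h3, hO] at h1
    linarith
  -- values in the plane
  have hχ := fun d => euler_twist_plane k d hP2
  let ez0 : Coh.structureModule (CohB1.ProjSpace 2 k) ≅ Twist.twistProjSpace 2 k 0 :=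
    ProjTwist.twistZeroIso (CohB1.polyGrading 2 k)
  have c1 : Ring.choose (1 : ℤ) 2 = 0 := by
    rw [show (1 : ℤ) = ((1 : ℕ) : ℤ) from rfl, Ring.choose_natCast]; rfl
  have c2 : Ring.choose (2 : ℤ) 2 = 1 := by
    rw [show (2 : ℤ) = ((2 : ℕ) : ℤ) from rfl, Ring.choose_natCast]; rfl
  have hII : SurfRR.pr k (ClSub.idealMod I) (ClSub.idealMod I) = 1 := by
    obtain ⟨ea⟩ := ProjTwist.nonempty_twistProjSpace_tensor 2 k (-1) (-1)
    rw [SurfRR.pr_eq, EulerChar.euler_iso k (ProjTwist.tensCongr e2 e2 ≪≫ ea), EulerChar.euler_iso k e2,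
      EulerChar.euler_iso k ez0, hχ, hχ]
    erw [hχ]
    norm_num [c1, c2, Ring.choose_zero_succ]
  have hχI : Curv2.euler k I.subscheme (Coh.structureModule I.subscheme) = 1 := by
    have h := SurfRR.euler_ker k I.subschemeι rfl (by rw [Scheme.IdealSheafData.ker_subschemeι]; exact hIinv)
    rw [Scheme.IdealSheafData.ker_subschemeι, EulerChar.euler_iso k e2,
      EulerChar.euler_iso k ez0, hχ] at h
    erw [hχ] at h
    norm_num [c1, c2, Ring.choose_zero_succ] at h
    linarith
  -- back on the surface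
  have hC2 : SurfRR.pr k (ClSub.idealMod C) (ClSub.idealMod C) = 1 := by
    rw [SurfRR.pr_comm, SurfRR.pr_congr k e1.symm, SurfRR.pr_comm, hdeg _ hIinv, hII]
  haveI : IrreducibleSpace X := inferInstance
  have hdim' : ∀ T ∈ irreducibleComponents (X : Type u), topologicalKrullDim T = 2 := fun T hT => by
    have : irreducibleComponents (X : Type u) = {Set.univ} := irreducibleComponents_eq_singleton
    rw [this, Set.mem_singleton_iff] at hT
    subst hT
    rw [IsHomeomorph.topologicalKrullDim_eq _ (Homeomorph.Set.univ X).isHomeomorph, hdim]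
  haveI := SurfRR.smoothRelDim_two k hdim'
  obtain ⟨n, i, hi, hik⟩ := SurfRR.exists_embedding k hdim'
  haveI := hi
  have hadj := SurfRR.adjunction k i hik W hW C.subschemeι rfl
    (by rw [Scheme.IdealSheafData.ker_subschemeι]; exact hCinv)
  rw [Scheme.IdealSheafData.ker_subschemeι, hC2, hO, hχI] at hadj
  have hH : PicF.IsInvertible (NumTriv.oX σ 1) := NumTriv.isInvertible_oX σ 1
  obtain ⟨ea⟩ := NumTriv.nonempty_oX_add σ (-1) 1 0 (by norm_num)
  obtain ⟨ez⟩ := NumTriv.nonempty_oX_zero σ
  have hWi : PicF.IsInvertible W := SurfRR.isInvertible_canonical k i hik W hW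
  have := SurfRR.pr_inv k hdim.le hCinv hH hWi (ProjTwist.tensCongr eI (Iso.refl _) ≪≫ ea ≪≫ ez)
  show SurfRR.pr k (NumTriv.oX σ 1) W = -3
  linarith

end Groth.Agent.Blow44
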